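import Cfsg.Agent.Lib.Perm.ZasSuzuki.Cube.Kernel
import Cfsg.Agent.Lib.Char.FeitZassenhausDecomp
import Cfsg.Agent.S0878

/-!
# Restriction to a kernel of order the cube of the centre, and induction from it
-/

set_option autoImplicit false
set_option linter.unusedSectionVars false
set_option linter.style.haveILetI false

namespace Cfsg.Lib.ZasSuzuki

open Cfsg Cfsg.Lib.Char
open scoped commutatorElement ComplexConjugate IsMulCommutative

universe u v

variable {G : Type u} {Ω : Type v} [Group G] [Fintype G] [MulAction G Ω] [Fintype Ω] [IsSimpleGroup G]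

namespace ZSetup

variable (S : ZSetup G Ω)

include S

theorem res_conj {f : G → ℂ} (hf : IsClassFunction G f) (d : S.D) (u : S.U) :
    f (S.conjU d u : S.U) = f u := hf (u : G) (d : G)

/-- A homomorphism twisted by the two-point stabilizer. -/
def twist (μ : S.U →* ℂˣ) (d : S.D) : S.U →* ℂˣ := μ.comp (S.conjU d).toMonoidHom

theorem twist_apply (μ : S.U →* ℂˣ) (d : S.D) (u : S.U) : S.twist μ d u = μ (S.conjU d u) := rfl

theorem twist_twist (μ : S.U →* ℂˣ) (d e : S.D) : S.twist (S.twist μ d) e = S.twist μ (d * e) :=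
  MonoidHom.ext fun u => by simp [twist_apply, MulAut.mul_apply]

theorem twist_one (μ : S.U →* ℂˣ) : S.twist μ 1 = μ :=
  MonoidHom.ext fun u => by simp [twist_apply]

theorem twist_ne {μ : S.U →* ℂˣ} (h : μ ≠ 1) (d : S.D) : S.twist μ d ≠ 1 := fun e => h (by
  rw [← S.twist_one μ, ← mul_inv_cancel d, ← S.twist_twist, e]
  rfl)

theorem D_comm (d e : S.D) : d * e = e * d := by
  haveI : IsCyclic S.D := (Cfsg.Agent.S0345.result S.hZ S.hab).1
  obtain ⟨g, hg⟩ := IsCyclic.exists_generator (α := S.D)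
  obtain ⟨i, rfl⟩ := Subgroup.mem_zpowers_iff.1 (hg d)
  obtain ⟨j, rfl⟩ := Subgroup.mem_zpowers_iff.1 (hg e)
  exact ((Commute.refl g).zpow_zpow i j).eq

variable [Fintype S.U] [Fintype S.D]

/-- Induction from the kernel, restricted to the kernel. -/
theorem indFun_U {f : S.U → ℂ} (hf : IsClassFunction S.U f) {u : S.U} (hu : u ≠ 1) :
    indFun S.U f u = ∑ d : S.D, f (S.conjU d u) := by
  classical
  haveI := S.hZ.1
  have hu' : (u : G) ≠ 1 := fun e => hu (Subtype.ext e)
  let e : S.U × S.D → G := fun p => (p.2 : G)⁻¹ * p.1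
  have he : Function.Injective e := by
    rintro ⟨v, d⟩ ⟨w, k⟩ h
    have h1 : (k : G) * (d : G)⁻¹ = w * (v : G)⁻¹ := by
      rw [eq_mul_inv_iff_mul_eq, mul_assoc, show (d : G)⁻¹ * v = (k : G)⁻¹ * w from h, mul_inv_cancel_left]
    have h2 : (k : G) * (d : G)⁻¹ = 1 :=
      S.meet_D (h1 ▸ S.U.mul_mem w.2 (S.U.inv_mem v.2)) (S.D.mul_mem k.2 (S.D.inv_mem d.2))
    rw [h2] at h1
    rw [Prod.mk.injEq]
    exact ⟨Subtype.ext (mul_inv_eq_one.1 h1.symm).symm, Subtype.ext (mul_inv_eq_one.1 h2).symm⟩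
  have hsum : ∑ x : G, extendByZero S.U f (x⁻¹ * u * x) = ∑ p : S.U × S.D, f (S.conjU p.2 u) := by
    symm
    refine Fintype.sum_of_injective e he _ _ (fun x hx => ?_) fun p => ?_
    · refine extendByZero_of_notMem _ _ fun hmem => ?_
      by_cases hxA : x⁻¹ ∈ MulAction.stabilizer G S.a
      · obtain ⟨w, hw, d, hd, hwd⟩ :=
          Cfsg.Lib.Perm.ZasAbelian.stab_decomp S.hab S.U S.hUa S.hcard S.hfix hxA
        refine hx ⟨(⟨w, hw⟩⁻¹, ⟨d, hd⟩), ?_⟩
        show d⁻¹ * w⁻¹ = x
        rw [← mul_inv_rev, ← hwd, inv_inv]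
      · exact hu' ((Cfsg.Agent.S0878.result S.hZ S.a S.U S.hUa S.hcard S.hfix).1 x⁻¹ hxA u u.2
          (by rwa [inv_inv]))
    · obtain ⟨v, d⟩ := p
      have h1 : ((d : G)⁻¹ * v)⁻¹ * u * ((d : G)⁻¹ * v) = ((v⁻¹ * S.conjU d u * v : S.U) : G) := by
        rw [Subgroup.coe_mul, Subgroup.coe_mul, Subgroup.coe_inv, S.conjU_apply]; group
      show f (S.conjU d u) = extendByZero S.U f (((d : G)⁻¹ * v)⁻¹ * u * ((d : G)⁻¹ * v))
      rw [h1, extendByZero_coe]
      have h2 := hf (S.conjU d u) v⁻¹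
      rw [inv_inv] at h2
      exact h2.symm
  show (Nat.card S.U : ℂ)⁻¹ * _ = _
  rw [hsum, Fintype.sum_prod_type]
  dsimp only
  rw [Finset.sum_const, Finset.card_univ, nsmul_eq_mul,
    ← Nat.card_eq_fintype_card, ← mul_assoc, inv_mul_cancel₀ card_cast_ne_zero, one_mul]

/-- The inner product of two induced functions. -/
theorem ind_inner {f g : S.U → ℂ} (hg : IsClassFunction S.U g) (hf1 : f 1 = 0) :
    classInner (indFun S.U f) (indFun S.U g) = ∑ d : S.D, classInner f fun u => g (S.conjU d u) := by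
  rw [classInner_indFun S.U f (isClassFunction_indFun S.U g)]
  simp only [classInner, ← Finset.mul_sum]
  rw [Finset.sum_comm]
  congr 1
  refine Finset.sum_congr rfl fun u _ => ?_
  by_cases hu : u = 1
  · simp [hu, hf1]
  · rw [S.indFun_U hg hu, map_sum, Finset.mul_sum]

/-- The inner product of the restriction of a function with one on the kernel. -/
noncomputable def cf (χ : G → ℂ) (f : S.U → ℂ) : ℂ := classInner (fun u : S.U => χ u) f

theorem cf_nat {χ : G → ℂ} (hχ : IsCharacter G χ) {f : S.U → ℂ} (hf : IsCharacter S.U f) :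
    ∃ n : ℕ, S.cf χ f = n := (hχ.comp S.U.subtype).exists_nat_classInner hf

theorem cf_conj {χ : G → ℂ} (hχ : IsClassFunction G χ) (f : S.U → ℂ) (d : S.D) :
    S.cf χ (fun u => f (S.conjU d u)) = S.cf χ f := by
  simp only [cf, classInner]
  congr 1
  exact Fintype.sum_equiv (S.conjU d).toEquiv _ _ fun u => by
    rw [MulEquiv.toEquiv_eq_coe, EquivLike.coe_coe, S.res_conj hχ]

theorem lin_inner [Fintype (S.U →* ℂˣ)] [DecidableEq (S.U →* ℂˣ)] (μ ν : S.U →* ℂˣ) :
    classInner (fun u => (μ u : ℂ)) (fun u => (ν u : ℂ)) = if μ = ν then 1 else 0 := by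
  rw [classInner_irr (isIrrCharacter_linear μ) (isIrrCharacter_linear ν)]
  exact if_congr ⟨fun e => linearChar_injective e, fun e => by rw [e]⟩ rfl rfl

variable (hh : S.h = S.q ^ 3)

include hh

theorem cast_h : (Nat.card S.U : ℂ) = (S.q : ℂ) ^ 3 :=
  (congrArg Nat.cast hh).trans (Nat.cast_pow _ _)

theorem lin_conj (μ : S.U →* ℂˣ) (u : S.U) : conj (μ u : ℂ) = μ u := by
  rcases S.lin_sign hh μ u with e | e <;> simp [e]

theorem lin_inv (μ : S.U →* ℂˣ) (u : S.U) : (μ u⁻¹ : ℂ) = μ u := by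
  rw [map_inv, Units.val_inv_eq_inv_val]
  rcases S.lin_sign hh μ u with e | e <;> simp [e]

/-- Representatives of the orbits on the nontrivial linear characters. -/
theorem exists_reps [Fintype (S.U →* ℂˣ)] :
    ∃ (ι : Type u) (_ : Fintype ι) (r : ι → S.U →* ℂˣ), Fintype.card ι = S.q + 1 ∧ (∀ i, r i ≠ 1) ∧
      (∀ i j d e, S.twist (r i) d = S.twist (r j) e → i = j ∧ d = e) ∧
      ∀ F : (S.U →* ℂˣ) → ℂ, ∑ μ, F μ = F 1 + ∑ i, ∑ d : S.D, F (S.twist (r i) d) := by
  classical
  let L := {μ : S.U →* ℂˣ // μ ≠ 1}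
  let st : Setoid L := ⟨fun μ ν => ∃ d, S.twist μ.1 d = ν.1,
    ⟨fun μ => ⟨1, S.twist_one _⟩,
      fun {μ ν} ⟨d, hd⟩ => ⟨d⁻¹, by rw [← hd, S.twist_twist, mul_inv_cancel, S.twist_one]⟩,
      fun {μ ν o} ⟨d, hd⟩ ⟨e, he⟩ => ⟨d * e, by rw [← S.twist_twist, hd, he]⟩⟩⟩
  haveI : Finite (Quotient st) := Quotient.finite _
  let r : Quotient st → S.U →* ℂˣ := fun i => i.out.1
  have hinj : ∀ i j d e, S.twist (r i) d = S.twist (r j) e → i = j ∧ d = e := by
    intro i j d e h
    have hij : i = j := by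
      rw [← Quotient.out_eq i, ← Quotient.out_eq j]
      refine Quotient.sound ⟨d * e⁻¹, ?_⟩
      rw [← S.twist_twist, h, S.twist_twist, mul_inv_cancel, S.twist_one]
    subst hij
    refine ⟨rfl, mul_inv_eq_one.1 (S.lin_free i.out.2 (d := d * e⁻¹) fun v => ?_)⟩
    show S.twist (r i) (d * e⁻¹) v = r i v
    rw [← S.twist_twist, h, S.twist_twist, mul_inv_cancel, S.twist_one]
  haveI := Fintype.ofFinite (Quotient st)
  have hsum : ∀ F : (S.U →* ℂˣ) → ℂ, ∑ μ, F μ = F 1 + ∑ i, ∑ d : S.D, F (S.twist (r i) d) := by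
    intro F
    rw [← Finset.add_sum_erase _ _ (Finset.mem_univ (1 : S.U →* ℂˣ)), ← Fintype.sum_prod_type']
    congr 1
    refine (Finset.sum_bij (fun p _ => S.twist (r p.1) p.2)
      (fun p _ => Finset.mem_erase.2 ⟨S.twist_ne p.1.out.2 _, Finset.mem_univ _⟩)
      (fun p _ p' _ h => Prod.ext (hinj _ _ _ _ h).1 (hinj _ _ _ _ h).2)
      (fun μ hμ => ?_) fun p _ => rfl).symm
    let m : L := ⟨μ, Finset.ne_of_mem_erase hμ⟩
    obtain ⟨d, hd⟩ : st (Quotient.mk st m).out m := Quotient.exact (Quotient.out_eq _)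
    exact ⟨(Quotient.mk st m, d), Finset.mem_univ _, hd⟩
  refine ⟨Quotient st, inferInstance, r, ?_, fun i => i.out.2, hinj, hsum⟩
  have h1 := hsum fun _ => 1
  simp only [Finset.sum_const, Finset.card_univ, nsmul_eq_mul, mul_one] at h1
  rw [← Nat.card_eq_fintype_card, S.lin_card hh, ← Nat.card_eq_fintype_card (α := S.D)] at h1
  have h2 : S.q ^ 2 = 1 + Fintype.card (Quotient st) * Nat.card S.D := by exact_mod_cast h1
  refine Nat.eq_of_mul_eq_mul_right (show 0 < Nat.card S.D from Nat.card_pos) ?_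
  simp only [q] at h2 ⊢
  linarith [h2, show (Nat.card S.D + 1 + 1) * Nat.card S.D + 1 = (Nat.card S.D + 1) ^ 2 by ring]

theorem const_center {χ : G → ℂ} (hχ : IsClassFunction G χ) {z w : S.U} (hz1 : z ≠ 1)
    (hz : z ∈ Subgroup.center S.U) (hw1 : w ≠ 1) (hw : w ∈ Subgroup.center S.U) : χ w = χ z := by
  obtain ⟨d, rfl⟩ := S.conj_trans hz1 hz hw1 hw
  exact S.res_conj hχ d z

theorem coset_const {χ : G → ℂ} (hχ : IsClassFunction G χ) {u : S.U}
    (hu : u ∉ Subgroup.center S.U) (z : Subgroup.center S.U) : χ ((z : S.U) * u : S.U) = χ u := by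
  obtain ⟨v, hv⟩ := S.comm_surj hh hu z
  rw [← hv, ← S.conj_commutator]
  exact hχ (u : G) (v : G)

theorem lin_cf_eq [Fintype (S.U →* ℂˣ)] [Fintype (Subgroup.center S.U)] (χ : G → ℂ) (u : S.U) :
    ∑ μ : S.U →* ℂˣ, S.cf χ (fun v => (μ v : ℂ)) * (μ u : ℂ) =
      (S.q : ℂ)⁻¹ * ∑ z : Subgroup.center S.U, χ ((z : S.U) * u : S.U) := by
  classical
  have hq : (S.q : ℂ) ≠ 0 := Nat.cast_ne_zero.2 (by have := S.four_le_q; omega)
  calc ∑ μ : S.U →* ℂˣ, S.cf χ (fun v => (μ v : ℂ)) * (μ u : ℂ)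
      = (Nat.card S.U : ℂ)⁻¹ * ∑ v : S.U, χ v * ∑ μ : S.U →* ℂˣ, (μ (v * u⁻¹) : ℂ) := by
        simp only [cf, classInner, mul_assoc, ← Finset.mul_sum, Finset.sum_mul]
        rw [Finset.sum_comm]
        simp only [Finset.mul_sum]
        refine Finset.sum_congr rfl fun v _ => Finset.sum_congr rfl fun μ _ => ?_
        rw [map_mul, Units.val_mul, S.lin_conj hh, S.lin_inv hh]
    _ = (Nat.card S.U : ℂ)⁻¹ * ∑ v ∈ Finset.univ.filter (fun v : S.U => v * u⁻¹ ∈ Subgroup.center S.U),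
          χ v * (S.q : ℂ) ^ 2 := by
        rw [Finset.sum_filter]
        simp only [S.lin_sum hh, mul_ite, mul_zero]
    _ = (S.q : ℂ)⁻¹ * ∑ z : Subgroup.center S.U, χ ((z : S.U) * u : S.U) := by
        rw [Finset.sum_bij (t := Finset.univ) (g := fun z : Subgroup.center S.U =>
            χ ((z : S.U) * u : S.U) * (S.q : ℂ) ^ 2)
          (fun v hv => ⟨v * u⁻¹, (Finset.mem_filter.1 hv).2⟩) (fun _ _ => Finset.mem_univ _)
          (fun v _ w _ e => mul_right_cancel (congrArg Subtype.val e))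
          (fun z _ => ⟨(z : S.U) * u, Finset.mem_filter.2 ⟨Finset.mem_univ _, by
            rw [mul_inv_cancel_right]; exact z.2⟩, Subtype.ext (mul_inv_cancel_right _ _)⟩)
          (fun v _ => by rw [inv_mul_cancel_right]),
          ← Finset.sum_mul, S.cast_h hh]
        field_simp

/-- Expansion of a class function at a noncentral element of the kernel. -/
theorem expand_off [Fintype (S.U →* ℂˣ)] {χ : G → ℂ} (hχ : IsClassFunction G χ) {u : S.U}
    (hu : u ∉ Subgroup.center S.U) :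
    χ u = ∑ μ : S.U →* ℂˣ, S.cf χ (fun v => (μ v : ℂ)) * (μ u : ℂ) := by
  haveI := Fintype.ofFinite (Subgroup.center S.U)
  rw [S.lin_cf_eq hh, Finset.sum_congr rfl fun z _ => S.coset_const hh hχ hu z, Finset.sum_const,
    Finset.card_univ, ← Nat.card_eq_fintype_card, S.card_center, nsmul_eq_mul,
    inv_mul_cancel_left₀ (Nat.cast_ne_zero.2 (by have := S.four_le_q; omega))]

theorem psi_sum [Fintype (Subgroup.center S.U)] (lam : Subgroup.center S.U →* ℂˣ) (f : S.U → ℂ) :
    classInner f (S.psi lam) =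
      ((S.q : ℂ) ^ 2)⁻¹ * ∑ z : Subgroup.center S.U, f z * (lam z : ℂ) := by
  have hq : (S.q : ℂ) ≠ 0 := Nat.cast_ne_zero.2 (by have := S.four_le_q; omega)
  rw [classInner, S.sum_center _ fun v hv => by rw [S.psi_off _ hv, map_zero, mul_zero],
    S.cast_h hh,
    Finset.mul_sum, Finset.mul_sum]
  refine Finset.sum_congr rfl fun z _ => ?_
  rw [S.psi_center, map_mul, Complex.conj_natCast]
  have hc : conj (lam z : ℂ) = lam z := by
    rcases S.center_sign lam z with e | e <;> simp [e]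
  rw [hc]
  generalize (S.q : ℂ) = Q at hq ⊢
  field_simp

theorem expand_one [Fintype (S.U →* ℂˣ)] {χ : G → ℂ} (hχ : IsClassFunction G χ)
    {lam : Subgroup.center S.U →* ℂˣ} (hl : lam ≠ 1) :
    χ 1 = ∑ μ : S.U →* ℂˣ, S.cf χ (fun v => (μ v : ℂ)) +
      (S.q : ℂ) * ((S.q : ℂ) - 1) * S.cf χ (S.psi lam) := by
  classical
  haveI := Fintype.ofFinite (Subgroup.center S.U)
  obtain ⟨z₀, hz₀⟩ : ∃ z : Subgroup.center S.U, z ≠ 1 := by
    by_contra h
    push Not at h
    exact hl (MonoidHom.ext fun z => by rw [h z, map_one, MonoidHom.one_apply])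
  have hq : (S.q : ℂ) ≠ 0 := Nat.cast_ne_zero.2 (by have := S.four_le_q; omega)
  have hc : ∀ z ∈ (Finset.univ : Finset (Subgroup.center S.U)).erase 1, χ (z : S.U) = χ (z₀ : S.U) :=
    fun z hz => S.const_center hh hχ (fun e => hz₀ (Subtype.ext e)) z₀.2
      (fun e => Finset.ne_of_mem_erase hz (Subtype.ext e)) z.2
  have h1 : ∑ μ : S.U →* ℂˣ, S.cf χ (fun v => (μ v : ℂ)) =
      (S.q : ℂ)⁻¹ * (χ 1 + ((S.q : ℂ) - 1) * χ (z₀ : S.U)) := by
    have := S.lin_cf_eq hh χ 1
    simp only [map_one, Units.val_one, mul_one] at this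
    rw [this, ← Finset.add_sum_erase _ _ (Finset.mem_univ (1 : Subgroup.center S.U)),
      Finset.sum_congr rfl hc, Finset.sum_const, Finset.card_erase_of_mem (Finset.mem_univ _),
      Finset.card_univ, ← Nat.card_eq_fintype_card, S.card_center, nsmul_eq_mul,
      Nat.cast_sub (by have := S.four_le_q; omega), Nat.cast_one]
    rfl
  have h0 := hom_sum_zero hl
  rw [← Finset.add_sum_erase _ _ (Finset.mem_univ (1 : Subgroup.center S.U)), map_one, Units.val_one] at h0
  have h2 : S.cf χ (S.psi lam) = ((S.q : ℂ) ^ 2)⁻¹ * (χ 1 - χ (z₀ : S.U)) := by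
    rw [cf, S.psi_sum hh, ← Finset.add_sum_erase _ _ (Finset.mem_univ (1 : Subgroup.center S.U)),
      Finset.sum_congr rfl (g := fun z => χ (z₀ : S.U) * (lam z : ℂ)) fun z hz => by rw [← hc z hz],
      ← Finset.mul_sum, map_one, Units.val_one, OneMemClass.coe_one, OneMemClass.coe_one, mul_one]
    congr 1
    linear_combination (χ (z₀ : S.U)) * h0
  rw [h1, h2]
  field_simp
  ring

theorem psi_lin (lam : Subgroup.center S.U →* ℂˣ) (hl : lam ≠ 1) (μ : S.U →* ℂˣ) :
    classInner (S.psi lam) (fun v => (μ v : ℂ)) = 0 := by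
  haveI := Fintype.ofFinite (Subgroup.center S.U)
  rw [← classInner_conj_symm, S.psi_sum hh]
  simp only [S.lin_center hh μ (Subtype.prop _), Units.val_one, one_mul, hom_sum_zero hl, mul_zero, map_zero]

theorem psi_twist {lam : Subgroup.center S.U →* ℂˣ} (hl : lam ≠ 1) [DecidableEq S.D] (d : S.D) :
    classInner (S.psi lam) (fun v => S.psi lam (S.conjU d v)) = if d = 1 then 1 else 0 := by
  have hirr := S.psi_irr hh hl
  have hirr' : IsIrrCharacter S.U fun v => S.psi lam (S.conjU d v) :=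
    IsIrrCharacter.comp_surjective hirr (S.conjU d).toMonoidHom (MulEquiv.surjective _)
  split_ifs with hd
  · subst hd
    rw [show (fun v => S.psi lam (S.conjU 1 v)) = S.psi lam from funext fun v => by simp,
      classInner_irr_self hirr]
  · refine classInner_irr_ne hirr hirr' fun e => hd (S.center_free hl fun z => Units.ext ?_)
    have h1 : S.psi lam (z : S.U) =
        S.psi lam ((⟨S.conjU d z, S.conjU_center d z.2⟩ : Subgroup.center S.U) : S.U) := congrFun e z
    rw [S.psi_center, S.psi_center] at h1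
    exact (mul_left_cancel₀ (Nat.cast_ne_zero.2 (by have := S.four_le_q; omega)) h1).symm

/-- The centralizer of a noncentral element of the kernel. -/
theorem card_centralizer {u : S.U} (hu : u ∉ Subgroup.center S.U) :
    Nat.card (Subgroup.centralizer ({(u : G)} : Set G)) = S.q ^ 2 := by
  classical
  rw [← S.comm_fibre hh hu 1, ← Fintype.card_subtype, ← Nat.card_eq_fintype_card]
  have hu1 : (u : G) ≠ 1 := fun e => hu (by rw [show u = 1 from Subtype.ext e]; exact one_mem _)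
  refine (Nat.card_congr (Equiv.ofBijective
    (fun v => (⟨(v.1 : G), Subgroup.mem_centralizer_singleton_iff.2 (congrArg Subtype.val
      (commutatorElement_eq_one_iff_mul_comm.1 (congrArg Subtype.val v.2)))⟩ :
        Subgroup.centralizer ({(u : G)} : Set G))) ⟨fun v w e => ?_, fun x => ?_⟩)).symm
  · exact Subtype.ext (Subtype.ext (congrArg (fun y : Subgroup.centralizer ({(u : G)} : Set G) => (y : G)) e))
  · have hx := Subgroup.mem_centralizer_singleton_iff.1 x.2
    exact ⟨⟨⟨(x : G), S.centralizer_le u.2 hu1 hx⟩, Subtype.ext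
      (commutatorElement_eq_one_iff_mul_comm.2 (Subtype.ext hx))⟩, rfl⟩

/-- A character with a constituent of the point stabilizer trivial on the kernel is constant there. -/
theorem const_of_trivial {χ : G → ℂ} (hχ : IsIrrCharacter G χ) (h1 : S.cf χ (fun _ => 1) ≠ 0) :
    ∀ u v : S.U, u ≠ 1 → v ≠ 1 → χ u = χ v := by
  classical
  haveI := S.hZ.1
  haveI : MulAction.IsPretransitive G Ω := by
    haveI := S.hZ.2.1
    exact MulAction.isPretransitive_of_is_two_pretransitive
  set A := MulAction.stabilizer G S.a with hA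
  haveI := Fintype.ofFinite A
  haveI := Fintype.ofFinite (S.U.subgroupOf A)
  haveI : (S.U.subgroupOf A).Normal := ⟨fun k hk g => S.hUn g g.2 k hk⟩
  have hlin := fz_linear S.hZ S.hab S.odd_D S.U S.hUa S.hcard S.hfix
  have hCK : ∀ k ∈ S.U.subgroupOf A, k ≠ 1 → Subgroup.centralizer ({k} : Set A) ≤ S.U.subgroupOf A :=
    fun k hk hk1 x hx => S.centralizer_le (k := (k : G)) hk (fun e => hk1 (Subtype.ext e))
      (congrArg Subtype.val (Subgroup.mem_centralizer_singleton_iff.1 hx))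
  have hres : IsClassFunction A (fun x : A => χ x) := fun x y => hχ.isClassFunction x y
  obtain ⟨hk, -⟩ := kernel_expansion hCK hlin hres
  obtain ⟨η, hη, hne⟩ : ∃ η ∈ irrTrivialOn (S.U.subgroupOf A),
      classInner (fun x : A => χ x) (η : A → ℂ) ≠ 0 := by
    by_contra h
    push Not at h
    rw [Finset.sum_eq_zero h, mul_zero] at hk
    refine h1 ?_
    rw [cf, classInner_one_right, ← Fintype.sum_equiv (Subgroup.subgroupOfEquivOfLe S.hUa).toEquiv
      (fun k : S.U.subgroupOf A => χ ((k : A) : G)) (fun u : S.U => χ u) fun k => rfl, hk, mul_zero]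
  rw [← classInner_indFun_right A _ hχ.isClassFunction] at hne
  have h1η := hlin η hη
  by_cases htriv : (η : A → ℂ) = fun _ => 1
  · rw [htriv, show indFun A (fun _ => (1 : ℂ)) = (fun _ => (1 : ℂ)) + fun g => (zasFix Ω g : ℂ) - 1 from
      funext fun g => by
        rw [indFun_stab_one_eq_fix S.a (fun c => MulAction.exists_smul_eq G S.a c) g]; simp,
      classInner_add_right] at hne
    intro u v hu hv
    by_cases hχ1 : χ = fun _ => 1
    · rw [hχ1]
    · rw [classInner_irr_ne hχ isIrrCharacter_one hχ1, zero_add] at hne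
      have hSt := fz_steinberg S.hZ S.hab S.odd_D S.U S.hUa S.hcard S.hfix
      by_cases hχ2 : χ = fun g => (zasFix Ω g : ℂ) - 1
      · rw [hχ2]
        show (zasFix Ω (u : G) : ℂ) - 1 = (zasFix Ω (v : G) : ℂ) - 1
        rw [(fz_fix S.hZ S.hab S.odd_D S.U S.hUa S.hcard S.hfix u (fun e => hu (Subtype.ext e))
            (S.hUa u.2)).1 u.2,
          (fz_fix S.hZ S.hab S.odd_D S.U S.hUa S.hcard S.hfix v (fun e => hv (Subtype.ext e))
            (S.hUa v.2)).1 v.2]
      · exact absurd (classInner_irr_ne hχ hSt hχ2) hne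
  · have hlt : Nat.card S.D < Fintype.card Ω - 2 := by
      rw [S.card_omega, hh]
      have h4 := S.four_le_q
      have : S.q * 4 ≤ S.q * S.q := Nat.mul_le_mul_left _ h4
      have : S.q * S.q * 1 ≤ S.q ^ 3 := by rw [pow_succ, pow_two]; exact Nat.mul_le_mul_left _ (by omega)
      simp only [q] at *
      omega
    obtain ⟨hirr, hval⟩ := Cfsg.Agent.S0881.result S.hZ S.hab S.odd_D hlt S.U S.hUa S.hcard S.hfix _
      ⟨η.2.isCharacter, h1η⟩ (fun u hu => by rw [mem_irrTrivialOn.1 hη u hu, h1η]) htriv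
    have heq : χ = indFun A (η : A → ℂ) := by
      by_contra e
      exact hne (classInner_irr_ne hχ hirr e)
    intro u v hu hv
    rw [heq, hval u u.2 fun e => hu (Subtype.ext e), hval v v.2 fun e => hv (Subtype.ext e)]

end ZSetup

end Cfsg.Lib.ZasSuzuki
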