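import Cfsg.Agent.Lib.Perm.ZasSuzuki.Setup
import Cfsg.Agent.Lib.Char.Constituents
import Cfsg.Agent.Lib.Char.Central
import Cfsg.Agent.Lib.Block.CentralDefect

/-!
# A kernel of order the cube of the centre

The commutator pairing followed by a nontrivial character of the centre is nondegenerate, so the
characters of the kernel are the linear ones and one of degree `q` over each such character.
-/

set_option autoImplicit false
set_option linter.unusedSectionVars false
set_option linter.style.haveILetI false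

namespace Cfsg.Lib.ZasSuzuki

open Cfsg Cfsg.Lib.Char
open scoped commutatorElement ComplexConjugate IsMulCommutative

universe u v

theorem hom_sum_zero {A : Type*} [Group A] [Fintype A] {f : A →* ℂˣ} (hf : f ≠ 1) :
    ∑ a, (f a : ℂ) = 0 := by
  obtain ⟨a, ha⟩ : ∃ a, f a ≠ 1 := by
    by_contra h
    push Not at h
    exact hf (MonoidHom.ext h)
  have h1 : ∑ x, (f x : ℂ) = (f a : ℂ) * ∑ x, (f x : ℂ) := by
    rw [Finset.mul_sum]
    exact (Fintype.sum_equiv (Equiv.mulLeft a) _ _ fun x => by simp).symm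
  exact (mul_eq_zero.1 (show ((f a : ℂ) - 1) * ∑ x, (f x : ℂ) = 0 by linear_combination -h1)).resolve_left
    (sub_ne_zero.2 fun e => ha (Units.ext e))

theorem finite_hom_units (A : Type u) [Group A] [Finite A] : Finite (A →* ℂˣ) :=
  Nat.finite_of_card_ne_zero (by rw [card_linear_eq_index]; exact Subgroup.index_ne_zero_of_finite)

theorem dual_sum {A : Type u} [CommGroup A] [Finite A] [DecidableEq A] [Fintype (A →* ℂˣ)] (a : A) :
    ∑ φ : A →* ℂˣ, (φ a : ℂ) = if a = 1 then (Nat.card A : ℂ) else 0 := by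
  split_ifs with h
  · subst h
    simp only [map_one, Units.val_one, Finset.sum_const, Finset.card_univ, nsmul_eq_mul, mul_one]
    rw [← Nat.card_eq_fintype_card, card_monoidHom_units]
  · haveI : NeZero (Monoid.exponent A) := ⟨Monoid.exponent_ne_zero_of_finite⟩
    obtain ⟨φ, hφ⟩ := CommGroup.exists_apply_ne_one_of_hasEnoughRootsOfUnity A ℂ h
    have h1 : ∑ ψ : A →* ℂˣ, (ψ a : ℂ) = (φ a : ℂ) * ∑ ψ : A →* ℂˣ, (ψ a : ℂ) := by
      rw [Finset.mul_sum]
      exact (Fintype.sum_equiv (Equiv.mulLeft φ) _ _ fun x => by simp).symm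
    exact (mul_eq_zero.1 (show ((φ a : ℂ) - 1) * ∑ ψ : A →* ℂˣ, (ψ a : ℂ) = 0 by
      linear_combination -h1)).resolve_left (sub_ne_zero.2 fun e => hφ (Units.ext e))

theorem sign_of_sq {A : Type*} [Monoid A] (f : A →* ℂˣ) {a : A} (h : f (a * a) = 1) :
    (f a : ℂ) = 1 ∨ (f a : ℂ) = -1 := by
  refine mul_self_eq_one_iff.1 ?_
  rw [← Units.val_mul, ← map_mul, h, Units.val_one]

variable {G : Type u} {Ω : Type v} [Group G] [Finite G] [MulAction G Ω] [Fintype Ω] [IsSimpleGroup G]

namespace ZSetup

variable (S : ZSetup G Ω)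

include S

/-- Commutators with a fixed element. -/
def commHom (x : S.U) : S.U →* Subgroup.center S.U where
  toFun v := ⟨⁅v, x⁆, S.comm_center v x⟩
  map_one' := Subtype.ext (by simp [commutatorElement_def])
  map_mul' v w := Subtype.ext (by
    show ⁅v * w, x⁆ = ⁅v, x⁆ * ⁅w, x⁆
    have h : v * ⁅w, x⁆ = ⁅w, x⁆ * v := Subgroup.mem_center_iff.1 (S.comm_center w x) v
    calc ⁅v * w, x⁆ = v * ⁅w, x⁆ * v⁻¹ * ⁅v, x⁆ := by simp only [commutatorElement_def]; group
      _ = ⁅w, x⁆ * ⁅v, x⁆ := by rw [h, mul_inv_cancel_right]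
      _ = ⁅v, x⁆ * ⁅w, x⁆ := (Subgroup.mem_center_iff.1 (S.comm_center w x) _).symm)

theorem commHom_val (x v : S.U) : (S.commHom x v : S.U) = ⁅v, x⁆ := rfl

theorem commHom_mul (x y v : S.U) : S.commHom (x * y) v = S.commHom x v * S.commHom y v := by
  refine Subtype.ext ?_
  show ⁅v, x * y⁆ = ⁅v, x⁆ * ⁅v, y⁆
  have h : x * ⁅v, y⁆ = ⁅v, y⁆ * x := Subgroup.mem_center_iff.1 (S.comm_center v y) x
  calc ⁅v, x * y⁆ = ⁅v, x⁆ * (x * ⁅v, y⁆ * x⁻¹) := by simp only [commutatorElement_def]; group
    _ = ⁅v, x⁆ * ⁅v, y⁆ := by rw [h, mul_inv_cancel_right]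

theorem commHom_center {x : S.U} (hx : x ∈ Subgroup.center S.U) (v : S.U) : S.commHom x v = 1 :=
  Subtype.ext (commutatorElement_eq_one_iff_mul_comm.2 (Subgroup.mem_center_iff.1 hx v))

theorem conj_commutator (x v : S.U) : v * x * v⁻¹ = (S.commHom x v : S.U) * x := by
  rw [S.commHom_val, commutatorElement_def]; group

/-- The square, as an element of the centre. -/
def sqC (v : S.U) : Subgroup.center S.U := ⟨v * v, S.sq_center v⟩

theorem sqC_mul (x v : S.U) : S.sqC (x * v) = S.commHom x v * (S.sqC x * S.sqC v) := by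
  refine Subtype.ext ?_
  show x * v * (x * v) = ⁅v, x⁆ * (x * x * (v * v))
  have h : x * ⁅v, x⁆ = ⁅v, x⁆ * x := Subgroup.mem_center_iff.1 (S.comm_center v x) x
  calc x * v * (x * v) = x * ⁅v, x⁆ * x * v * v := by simp only [commutatorElement_def]; group
    _ = ⁅v, x⁆ * (x * x * (v * v)) := by rw [h]; group

theorem center_mul_self (z : Subgroup.center S.U) : z * z = 1 :=
  Subtype.ext ((S.center_iff _).1 z.2)

theorem center_sign (lam : Subgroup.center S.U →* ℂˣ) (z : Subgroup.center S.U) :
    (lam z : ℂ) = 1 ∨ (lam z : ℂ) = -1 :=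
  sign_of_sq lam (by rw [S.center_mul_self, map_one])

theorem conjU_center (d : S.D) {z : S.U} (hz : z ∈ Subgroup.center S.U) :
    S.conjU d z ∈ Subgroup.center S.U := by
  rw [S.center_iff] at hz ⊢
  rw [← map_mul, hz, map_one]

theorem conjU_center_iff (d : S.D) (z : S.U) :
    S.conjU d z ∈ Subgroup.center S.U ↔ z ∈ Subgroup.center S.U := by
  rw [S.center_iff, S.center_iff, ← map_mul, map_eq_one_iff _ (MulEquiv.injective _)]

theorem free_eq {u : S.U} (hu : u ≠ 1) {d e : S.D} (h : S.conjU d u = S.conjU e u) : d = e := by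
  refine (inv_mul_eq_one.1 (S.free (d := e⁻¹ * d) hu ?_)).symm
  rw [map_mul, MulAut.mul_apply, h, map_inv, MulAut.inv_apply_self]

/-- The two-point stabilizer is transitive on the nontrivial central elements. -/
theorem conj_trans {z w : S.U} (hz1 : z ≠ 1) (hz : z ∈ Subgroup.center S.U) (hw1 : w ≠ 1)
    (hw : w ∈ Subgroup.center S.U) : ∃ d : S.D, S.conjU d z = w := by
  classical
  haveI := Fintype.ofFinite S.U
  haveI := Fintype.ofFinite S.D
  set T := (Finset.univ.filter fun u : S.U => u ∈ Subgroup.center S.U).erase 1 with hT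
  have hTc : T.card = Fintype.card S.D := by
    rw [hT, Finset.card_erase_of_mem (Finset.mem_filter.2 ⟨Finset.mem_univ _, one_mem _⟩),
      ← Fintype.card_subtype, ← Nat.card_eq_fintype_card, ← Nat.card_eq_fintype_card]
    have := S.card_center
    simp only [q] at this
    omega
  have hsub : Finset.univ.image (fun d => S.conjU d z) = T := by
    refine Finset.eq_of_subset_of_card_le (fun u hu => ?_) ?_
    · obtain ⟨d, -, rfl⟩ := Finset.mem_image.1 hu
      refine Finset.mem_erase.2 ⟨fun e => hz1 ((S.conjU d).injective (e.trans (map_one _).symm)),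
        Finset.mem_filter.2 ⟨Finset.mem_univ _, S.conjU_center d hz⟩⟩
    · rw [Finset.card_image_of_injective _ (fun d e h => S.free_eq hz1 h), Finset.card_univ, hTc]
  have : w ∈ T := Finset.mem_erase.2 ⟨hw1, Finset.mem_filter.2 ⟨Finset.mem_univ _, hw⟩⟩
  rw [← hsub] at this
  obtain ⟨d, -, hd⟩ := Finset.mem_image.1 this
  exact ⟨d, hd⟩

theorem exists_noncentral : ∃ u : S.U, u ∉ Subgroup.center S.U := by
  obtain ⟨u, hu, v, hv, huv⟩ := S.hna
  exact ⟨⟨u, hu⟩, fun h => huv (congrArg Subtype.val (Subgroup.mem_center_iff.1 h ⟨v, hv⟩)).symm⟩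

theorem four_le_q : 4 ≤ S.q := by
  obtain ⟨n, hn, hn2⟩ := S.exists_q_eq
  rw [hn]
  exact le_trans (by norm_num) (Nat.pow_le_pow_right (show 1 ≤ 2 by norm_num) hn2)

variable [Fintype S.U] (hh : S.h = S.q ^ 3)

include hh

/-- The sum of the values at squares. -/
theorem square_sum {lam : Subgroup.center S.U →* ℂˣ} (hl : lam ≠ 1) :
    ∑ v, (lam (S.sqC v) : ℂ) = -((S.q : ℂ) ^ 2) := by
  classical
  haveI := Fintype.ofFinite (Subgroup.center S.U)
  set N : Subgroup.center S.U → ℕ := fun z => (Finset.univ.filter fun v => S.sqC v = z).card with hN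
  obtain ⟨z₀, hz₀⟩ : ∃ z : Subgroup.center S.U, z ≠ 1 := by
    by_contra h
    push Not at h
    exact hl (MonoidHom.ext fun z => by rw [h z, map_one, MonoidHom.one_apply])
  have hone : N 1 = S.q := by
    rw [hN, ← S.card_center, Nat.card_eq_fintype_card, Fintype.card_subtype]
    exact congrArg Finset.card (Finset.filter_congr fun v _ =>
      ⟨fun h => (S.center_iff v).2 (congrArg Subtype.val h), fun h => Subtype.ext ((S.center_iff v).1 h)⟩)
  have hconst : ∀ z : Subgroup.center S.U, z ≠ 1 → N z = N z₀ := by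
    intro z hz
    obtain ⟨d, hd⟩ := S.conj_trans (fun e => hz₀ (Subtype.ext e)) z₀.2 (fun e => hz (Subtype.ext e)) z.2
    refine (Finset.card_equiv (S.conjU d).toEquiv fun v => ?_).symm
    simp only [Finset.mem_filter, Finset.mem_univ, true_and]
    constructor
    · intro h
      refine Subtype.ext ?_
      show S.conjU d v * S.conjU d v = z
      rw [← map_mul, show v * v = z₀ from congrArg Subtype.val h, hd]
    · intro h
      refine Subtype.ext ((S.conjU d).injective ?_)
      show S.conjU d (v * v) = S.conjU d z₀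
      rw [map_mul, hd]
      exact congrArg Subtype.val h
  have htot : Fintype.card S.U = ∑ z, N z := Finset.card_eq_sum_card_fiberwise fun v _ => Finset.mem_univ _
  rw [← Finset.add_sum_erase _ _ (Finset.mem_univ (1 : Subgroup.center S.U)), hone,
    Finset.sum_congr rfl (g := fun _ => N z₀) fun z hz => hconst z (Finset.ne_of_mem_erase hz),
    Finset.sum_const, Finset.card_erase_of_mem (Finset.mem_univ _), Finset.card_univ,
    ← Nat.card_eq_fintype_card, ← Nat.card_eq_fintype_card, S.card_center, smul_eq_mul] at htot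
  have key : ∀ Q M H : ℕ, 4 ≤ Q → H = Q ^ 3 → H = Q + (Q - 1) * M → M = Q * (Q + 1) := by
    rintro Q M H hQ rfl h2
    obtain ⟨r, rfl⟩ : ∃ r, Q = r + 1 := ⟨Q - 1, by omega⟩
    rw [Nat.add_sub_cancel] at h2
    exact Nat.eq_of_mul_eq_mul_left (show 0 < r by omega) (by linarith [h2, show r * ((r + 1) * (r + 1 + 1)) + (r + 1) = (r + 1) ^ 3 by ring])
  have hN0 : (N z₀ : ℂ) = (S.q : ℂ) * ((S.q : ℂ) + 1) := by
    rw [key S.q (N z₀) S.h S.four_le_q hh htot]; push_cast; ring
  rw [← Finset.sum_fiberwise Finset.univ S.sqC fun v => (lam (S.sqC v) : ℂ)]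
  rw [Finset.sum_congr rfl (g := fun z => (N z : ℂ) * lam z) fun z _ => by
    rw [Finset.sum_congr rfl (g := fun _ => (lam z : ℂ)) fun v hv => by rw [(Finset.mem_filter.1 hv).2],
      Finset.sum_const, nsmul_eq_mul]]
  rw [← Finset.add_sum_erase _ _ (Finset.mem_univ (1 : Subgroup.center S.U)), hone, map_one,
    Units.val_one, Finset.sum_congr rfl (g := fun z => (N z₀ : ℂ) * lam z) fun z hz => by
      rw [hconst z (Finset.ne_of_mem_erase hz)],
    ← Finset.mul_sum]
  have h0 := hom_sum_zero hl
  rw [← Finset.add_sum_erase _ _ (Finset.mem_univ (1 : Subgroup.center S.U)), map_one, Units.val_one] at h0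
  rw [hN0]
  linear_combination ((S.q : ℂ) * ((S.q : ℂ) + 1)) * h0

/-- The commutator pairing is nondegenerate. -/
theorem pairing {lam : Subgroup.center S.U →* ℂˣ} (hl : lam ≠ 1) {x : S.U}
    (hx : ∀ v, lam (S.commHom x v) = 1) : x ∈ Subgroup.center S.U := by
  classical
  have hq : (S.q : ℂ) ≠ 0 := Nat.cast_ne_zero.2 (by have := S.four_le_q; omega)
  set R := Finset.univ.filter fun x : S.U => ∀ v, lam (S.commHom x v) = 1 with hR
  have hdev : ∀ y : S.U, ∑ v, (lam (S.commHom y v) : ℂ) = if y ∈ R then (S.h : ℂ) else 0 := by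
    intro y
    split_ifs with hy
    · simp only [hR, Finset.mem_filter, Finset.mem_univ, true_and] at hy
      simp [hy, h, Nat.card_eq_fintype_card]
    · refine hom_sum_zero (f := lam.comp (S.commHom y)) fun e => hy ?_
      simp only [hR, Finset.mem_filter, Finset.mem_univ, true_and]
      exact fun v => DFunLike.congr_fun e v
  have hsq : (∑ v, (lam (S.sqC v) : ℂ)) * ∑ w, (lam (S.sqC w) : ℂ) =
      (S.h : ℂ) * ∑ y ∈ R, (lam (S.sqC y) : ℂ) := by
    rw [Finset.sum_mul]
    simp_rw [Finset.mul_sum]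
    calc ∑ v, ∑ w, (lam (S.sqC v) : ℂ) * lam (S.sqC w)
        = ∑ v, ∑ y, (lam (S.sqC v) : ℂ) * lam (S.sqC (y * v)) :=
          Finset.sum_congr rfl fun v _ => (Fintype.sum_equiv (Equiv.mulRight v) _ _ fun y => rfl).symm
      _ = ∑ y, (lam (S.sqC y) : ℂ) * ∑ v, (lam (S.commHom y v) : ℂ) := by
          rw [Finset.sum_comm]
          refine Finset.sum_congr rfl fun y _ => ?_
          rw [Finset.mul_sum]
          refine Finset.sum_congr rfl fun v _ => ?_
          rw [S.sqC_mul, map_mul, map_mul, Units.val_mul, Units.val_mul]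
          rcases S.center_sign lam (S.sqC v) with e | e <;> rw [e] <;> ring
      _ = ∑ y, if y ∈ R then (S.h : ℂ) * lam (S.sqC y) else 0 := by
          refine Finset.sum_congr rfl fun y _ => ?_
          rw [hdev]
          split_ifs <;> ring
      _ = _ := by rw [Finset.sum_ite_mem, Finset.univ_inter]
  rw [S.square_sum hh hl, hh] at hsq
  have hRsum : ∑ y ∈ R, (lam (S.sqC y) : ℂ) = (S.q : ℂ) := by
    refine mul_left_cancel₀ (pow_ne_zero 3 hq) ?_
    rw [Nat.cast_pow] at hsq
    linear_combination -hsq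
  have hall : ∀ y ∈ R, lam (S.sqC y) = 1 := by
    intro y₀ hy₀
    by_contra hne
    simp only [hR, Finset.mem_filter, Finset.mem_univ, true_and] at hy₀
    have h1 : ∑ y ∈ R, (lam (S.sqC y) : ℂ) = (lam (S.sqC y₀) : ℂ) * ∑ y ∈ R, (lam (S.sqC y) : ℂ) := by
      rw [Finset.mul_sum]
      refine (Finset.sum_equiv (Equiv.mulLeft y₀) (fun y => ?_) fun y _ => ?_).symm
      · simp only [hR, Finset.mem_filter, Finset.mem_univ, true_and, Equiv.coe_mulLeft]
        refine forall_congr' fun v => ?_
        rw [S.commHom_mul, map_mul, hy₀, one_mul]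
      · rw [Equiv.coe_mulLeft, S.sqC_mul, map_mul, map_mul, hy₀, one_mul, Units.val_mul]
    rw [hRsum] at h1
    exact hne (Units.ext (mul_right_cancel₀ hq (by rw [Units.val_one]; linear_combination -h1)))
  rw [Finset.sum_congr rfl fun y hy => by rw [hall y hy, Units.val_one], Finset.sum_const,
    nsmul_eq_mul, mul_one] at hRsum
  have hsub : (Finset.univ.filter fun y : S.U => y ∈ Subgroup.center S.U) = R := by
    refine Finset.eq_of_subset_of_card_le (fun y hy => ?_) ?_
    · simp only [hR, Finset.mem_filter, Finset.mem_univ, true_and]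
      exact fun v => by rw [S.commHom_center (Finset.mem_filter.1 hy).2, map_one]
    · refine (Nat.cast_injective hRsum).trans_le (le_of_eq ?_)
      rw [← Fintype.card_subtype, ← Nat.card_eq_fintype_card]
      exact S.card_center.symm
  have : x ∈ R := Finset.mem_filter.2 ⟨Finset.mem_univ _, hx⟩
  rw [← hsub] at this
  exact (Finset.mem_filter.1 this).2

open Classical in
/-- Every commutator fibre of a noncentral element has order `q ^ 2`. -/
theorem comm_fibre {u : S.U} (hu : u ∉ Subgroup.center S.U) (z : Subgroup.center S.U) :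
    (Finset.univ.filter fun v => S.commHom u v = z).card = S.q ^ 2 := by
  haveI := finite_hom_units (Subgroup.center S.U)
  haveI := Fintype.ofFinite (Subgroup.center S.U →* ℂˣ)
  have h1 : ∑ v : S.U, ∑ lam : Subgroup.center S.U →* ℂˣ, (lam (S.commHom u v * z) : ℂ) =
      (S.q : ℂ) * (Finset.univ.filter fun v => S.commHom u v = z).card := by
    rw [Finset.sum_congr rfl fun v _ => dual_sum (S.commHom u v * z), S.card_center]
    rw [← Finset.sum_filter, Finset.sum_const, nsmul_eq_mul, mul_comm]
    congr 2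
    refine congrArg Finset.card (Finset.filter_congr fun v _ => ?_)
    rw [mul_eq_one_iff_eq_inv, inv_eq_of_mul_eq_one_right (S.center_mul_self z)]
  have h2 : ∑ v : S.U, ∑ lam : Subgroup.center S.U →* ℂˣ, (lam (S.commHom u v * z) : ℂ) = (S.h : ℂ) := by
    rw [Finset.sum_comm, Finset.sum_eq_single 1]
    · simp [h, Nat.card_eq_fintype_card]
    · intro lam _ hl
      simp only [map_mul, Units.val_mul, ← Finset.sum_mul]
      rw [show (∑ v, (lam (S.commHom u v) : ℂ)) = 0 from hom_sum_zero (f := lam.comp (S.commHom u))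
        fun e => hu (S.pairing hh hl fun v => DFunLike.congr_fun e v), zero_mul]
    · simp
  rw [h1, hh] at h2
  have h3 : S.q * (Finset.univ.filter fun v => S.commHom u v = z).card = S.q * S.q ^ 2 := by
    rw [← pow_succ']; exact_mod_cast h2
  exact Nat.eq_of_mul_eq_mul_left (by have := S.four_le_q; omega) h3

theorem comm_surj {u : S.U} (hu : u ∉ Subgroup.center S.U) (z : Subgroup.center S.U) :
    ∃ v, S.commHom u v = z := by
  classical
  have h := S.comm_fibre hh hu z
  obtain ⟨v, hv⟩ := Finset.card_pos.1 (h ▸ Nat.pow_pos (a := S.q) (n := 2) (by have := S.four_le_q; omega))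
  exact ⟨v, (Finset.mem_filter.1 hv).2⟩

theorem lin_center (μ : S.U →* ℂˣ) {z : S.U} (hz : z ∈ Subgroup.center S.U) : μ z = 1 := by
  obtain ⟨u, hu⟩ := S.exists_noncentral
  obtain ⟨v, hv⟩ := S.comm_surj hh hu ⟨z, hz⟩
  rw [show z = ⁅v, u⁆ from (congrArg Subtype.val hv).symm, commutatorElement_def]
  simp [mul_comm, mul_left_comm]

theorem lin_sign (μ : S.U →* ℂˣ) (v : S.U) : (μ v : ℂ) = 1 ∨ (μ v : ℂ) = -1 :=
  sign_of_sq μ (S.lin_center hh μ (S.sq_center v))

theorem commutator_eq : commutator S.U = Subgroup.center S.U := by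
  refine le_antisymm ?_ fun z hz => ?_
  · rw [commutator_def, Subgroup.commutator_le]
    exact fun g _ k _ => S.comm_center g k
  · obtain ⟨u, hu⟩ := S.exists_noncentral
    obtain ⟨v, hv⟩ := S.comm_surj hh hu ⟨z, hz⟩
    rw [show z = ⁅v, u⁆ from (congrArg Subtype.val hv).symm, commutator_def]
    exact Subgroup.commutator_mem_commutator (Subgroup.mem_top _) (Subgroup.mem_top _)

theorem lin_card : Nat.card (S.U →* ℂˣ) = S.q ^ 2 := by
  rw [card_linear_eq_index]
  have h := (commutator S.U).card_mul_index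
  rw [S.commutator_eq hh, S.card_center, show Nat.card S.U = S.q * S.q ^ 2 by rw [← pow_succ']; exact hh] at h
  rw [S.commutator_eq hh]
  exact Nat.eq_of_mul_eq_mul_left (by have := S.four_le_q; omega) h

open Classical in
theorem lin_sum [Fintype (S.U →* ℂˣ)] (u : S.U) :
    ∑ μ : S.U →* ℂˣ, (μ u : ℂ) = if u ∈ Subgroup.center S.U then (S.q : ℂ) ^ 2 else 0 := by
  split_ifs with hu
  · simp only [S.lin_center hh _ hu, Units.val_one, Finset.sum_const, Finset.card_univ, nsmul_eq_mul,
      mul_one, ← Nat.card_eq_fintype_card, S.lin_card hh, Nat.cast_pow]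
  · haveI := finite_hom_units (Abelianization S.U)
    haveI : Finite (Abelianization S.U) := Quotient.finite _
    haveI := Fintype.ofFinite (Abelianization S.U →* ℂˣ)
    have h1 := dual_sum (Abelianization.of u)
    rw [if_neg fun e => hu (by
      rw [← S.commutator_eq hh]; exact (QuotientGroup.eq_one_iff u).1 e)] at h1
    rw [← h1]
    exact Fintype.sum_equiv Abelianization.lift (fun μ : S.U →* ℂˣ => (μ u : ℂ))
      (fun φ => (φ (Abelianization.of u) : ℂ)) fun μ => by rw [Abelianization.lift_apply_of]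

omit hh in
theorem sum_center [Fintype (Subgroup.center S.U)] (f : S.U → ℂ)
    (hf : ∀ v, v ∉ Subgroup.center S.U → f v = 0) : ∑ v, f v = ∑ z : Subgroup.center S.U, f z := by
  classical
  rw [← Finset.sum_subtype (Finset.univ.filter fun v : S.U => v ∈ Subgroup.center S.U) (by simp) f]
  exact (Finset.sum_filter_of_ne fun v _ h => by_contra fun hv => h (hf v hv)).symm

omit hh in
open Classical in
/-- The character of degree `q` over a character of the centre. -/
noncomputable def psi (lam : Subgroup.center S.U →* ℂˣ) : S.U → ℂ :=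
  fun v => if hv : v ∈ Subgroup.center S.U then (S.q : ℂ) * lam ⟨v, hv⟩ else 0

omit hh in
theorem psi_center (lam : Subgroup.center S.U →* ℂˣ) (z : Subgroup.center S.U) :
    S.psi lam z = (S.q : ℂ) * lam z := by simp [psi]

omit hh in
theorem psi_off (lam : Subgroup.center S.U →* ℂˣ) {v : S.U} (hv : v ∉ Subgroup.center S.U) :
    S.psi lam v = 0 := by simp [psi, hv]

theorem psi_irr {lam : Subgroup.center S.U →* ℂˣ} (hl : lam ≠ 1) : IsIrrCharacter S.U (S.psi lam) := by
  classical
  haveI := Fintype.ofFinite (Subgroup.center S.U)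
  have hW := isCharacter_indFun (Subgroup.center S.U) (isIrrCharacter_linear lam).isCharacter
  obtain ⟨⟨ξ, hξ⟩, hne⟩ := exists_constituent hW (by
    rw [indFun_apply_one, map_one, Units.val_one, mul_one]
    exact Nat.cast_ne_zero.2 Subgroup.index_ne_zero_of_finite)
  rw [classInner_indFun _ _ hξ.isClassFunction] at hne
  have hscal : ∀ (z : Subgroup.center S.U) (w : S.U), ξ (z * w) = (lam z : ℂ) * ξ w := by
    intro z
    obtain ⟨c, -, hc⟩ := Cfsg.Lib.Block.exists_central_scalar (⟨ξ, hξ⟩ : IrrCharacter S.U) z.2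
    have h1 : classInner (fun w => (lam w : ℂ)) (fun w : Subgroup.center S.U => ξ w) =
        (lam z : ℂ) * conj c * classInner (fun w => (lam w : ℂ)) (fun w : Subgroup.center S.U => ξ w) := by
      simp only [classInner]
      rw [mul_left_comm, Finset.mul_sum (a := (lam z : ℂ) * conj c)]
      congr 1
      refine (Fintype.sum_equiv (Equiv.mulLeft z) _ _ fun w => ?_).symm
      rw [Equiv.coe_mulLeft, map_mul, Units.val_mul, Subgroup.coe_mul,
        show ξ ((z : S.U) * (w : S.U)) = c * ξ w from hc w, map_mul]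
      ring
    have h2 : (lam z : ℂ) * conj c = 1 := mul_right_cancel₀ hne (by rw [one_mul]; exact h1.symm)
    have h3 : c = lam z := by
      rcases S.center_sign lam z with e | e <;> rw [e] at h2 ⊢
      · rw [← Complex.conj_conj c, show conj c = 1 by linear_combination h2, map_one]
      · rw [← Complex.conj_conj c, show conj c = -1 by linear_combination -h2, map_neg, map_one]
    exact fun w => h3 ▸ hc w
  have hoff : ∀ v, v ∉ Subgroup.center S.U → ξ v = 0 := by
    intro v hv
    obtain ⟨w, hw⟩ : ∃ w, lam (S.commHom v w) ≠ 1 := by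
      by_contra h
      push Not at h
      exact hv (S.pairing hh hl h)
    have h1 := hξ.isClassFunction v w
    rw [S.conj_commutator, hscal] at h1
    exact (mul_eq_zero.1 (show ((lam (S.commHom v w) : ℂ) - 1) * ξ v = 0 by
      linear_combination h1)).resolve_left (sub_ne_zero.2 fun e => hw (Units.ext e))
  obtain ⟨m, -, hm⟩ := hξ.exists_degree
  have hval : ∀ z : Subgroup.center S.U, ξ z = (m : ℂ) * lam z := fun z => by
    have := hscal z 1
    rwa [mul_one, hm, mul_comm] at this
  have hmq : m = S.q := by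
    have h1 := classInner_irr_self hξ
    rw [classInner, inv_mul_eq_one₀ card_cast_ne_zero,
      S.sum_center _ fun v hv => by rw [hoff v hv, zero_mul]] at h1
    rw [Finset.sum_congr rfl (g := fun _ => (m : ℂ) * m) fun z _ => by
      rw [hval, map_mul, Complex.conj_natCast]
      rcases S.center_sign lam z with e | e <;> rw [e] <;> simp, Finset.sum_const,
      Finset.card_univ, ← Nat.card_eq_fintype_card, S.card_center, nsmul_eq_mul] at h1
    have h2 : S.q * S.q ^ 2 = S.q * (m * m) := by
      rw [← pow_succ', ← hh]; exact_mod_cast h1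
    have h3 := Nat.eq_of_mul_eq_mul_left (by have := S.four_le_q; omega) h2
    exact Nat.mul_self_inj.1 (h3.symm.trans (pow_two _))
  have : ξ = S.psi lam := by
    funext v
    by_cases hv : v ∈ Subgroup.center S.U
    · rw [show v = ((⟨v, hv⟩ : Subgroup.center S.U) : S.U) from rfl, hval, S.psi_center, hmq]
    · rw [hoff v hv, S.psi_off _ hv]
  exact this ▸ hξ

omit hh in
/-- A character fixed by an element of the two-point stabilizer. -/
theorem lin_free {μ : S.U →* ℂˣ} (hμ : μ ≠ 1) {d : S.D} (h : ∀ v, μ (S.conjU d v) = μ v) : d = 1 := by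
  by_contra hd
  refine hμ (MonoidHom.ext fun v => ?_)
  have hinj : Function.Injective fun w : S.U => w⁻¹ * S.conjU d w := by
    intro a b e
    have h1 : S.conjU d (b * a⁻¹) = b * a⁻¹ := by
      rw [map_mul, map_inv, mul_inv_eq_iff_eq_mul]
      calc S.conjU d b = b * (b⁻¹ * S.conjU d b) := by group
        _ = b * (a⁻¹ * S.conjU d a) := by rw [show a⁻¹ * S.conjU d a = b⁻¹ * S.conjU d b from e]
        _ = b * a⁻¹ * S.conjU d a := by group
    by_contra hab
    exact hd (S.free (fun e' => hab (mul_inv_eq_one.1 e').symm) h1)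
  obtain ⟨w, rfl⟩ := Finite.surjective_of_injective hinj v
  simp [h]

omit hh in
theorem center_free {lam : Subgroup.center S.U →* ℂˣ} (hl : lam ≠ 1) {d : S.D}
    (h : ∀ z : Subgroup.center S.U, lam ⟨S.conjU d z, S.conjU_center d z.2⟩ = lam z) : d = 1 := by
  by_contra hd
  refine hl (MonoidHom.ext fun v => ?_)
  have hinj : Function.Injective fun w : Subgroup.center S.U =>
      w⁻¹ * (⟨S.conjU d w, S.conjU_center d w.2⟩ : Subgroup.center S.U) := by
    intro a b e
    have e' : (a : S.U)⁻¹ * S.conjU d a = (b : S.U)⁻¹ * S.conjU d b := congrArg Subtype.val e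
    have h1 : S.conjU d ((b : S.U) * (a : S.U)⁻¹) = (b : S.U) * (a : S.U)⁻¹ := by
      rw [map_mul, map_inv, mul_inv_eq_iff_eq_mul]
      calc S.conjU d b = (b : S.U) * ((b : S.U)⁻¹ * S.conjU d b) := by group
        _ = (b : S.U) * ((a : S.U)⁻¹ * S.conjU d a) := by rw [e']
        _ = (b : S.U) * (a : S.U)⁻¹ * S.conjU d a := by group
    by_contra hab
    exact hd (S.free (fun e'' => hab (Subtype.ext (mul_inv_eq_one.1 e'').symm)) h1)
  obtain ⟨w, rfl⟩ := Finite.surjective_of_injective hinj v
  simp [h]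

end ZSetup

end Cfsg.Lib.ZasSuzuki
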